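import Cfsg.Agent.Lib.DC.J4T.D0
import Cfsg.Agent.Lib.Grp.M24p.Defs

set_option autoImplicit false
set_option maxRecDepth 100000
set_option Elab.async false
set_option linter.unusedSectionVars false

namespace Cfsg.Agent.DC.J4T
open Cfsg.Agent.CG

noncomputable def nd : ℕ → ℕ := (fun i => look 0xffffff ndT (Nat.mul 24 i))
noncomputable def ivT : ℕ := nat_lit 0x2010403060518071a191c1b1e1d101f12111413161517
noncomputable abbrev iv : ℕ → ℕ := ivX ivT 23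
noncomputable def rels : List (List ℕ × List ℤ) := [([256,256], [.ofNat 1]),
  ([257,2,0,2,0,2,0,1,0,1,0,2,0,2,256,1,0,1,0,2,0,2,0,1,0,1,0,1], [.ofNat 0,.ofNat 1]),
  ([257,0,256,0], [.ofNat 0,.ofNat 0,.ofNat 1]),
  ([1,0,1,0,2,0,1,0,2,256,1,0,2,0,1,0,2,0,1,0,1,0,2,0,1,0,2,256,1,0,2,0,1,0,2,0,1,0,1,0,2,0,1,0,2,256,1,0,2,0,1,0,2,0], [.ofNat 0,.ofNat 0,.ofNat 0,.ofNat 1]),
  ([1,0,1,0,1,0,1,1,0,1,0,1,0,1,1,0,1,0,1,0,1,256,2,2,0,2,0,2,0,2,0,2,0,2,0,2,2,0,2,0,2,0,256,0,1,0,1,0,1,1,0,1,0,1,0,1,0,1,0,1,0,1,1,1,0,1,0,1,0,1,1,0,1,0,1,0,1,1,0,1,0,1,0,1,256,2,2,0,2,0,2,0,2,0,2,0,2,0,2,2,0,2,0,2,0,256,0,1,0,1,0,1,1,0,1,0,1,0,1,0,1,0,1,0,1,1], [.ofNat 0,.ofNat 0,.ofNat 0,.ofNat 0,.ofNat 1])]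
noncomputable def lrels : List (List ℕ) := []
noncomputable abbrev rels0 : List (List ℕ × List ℤ) := ([], []) :: ([256, 257], []) :: rels
noncomputable def idx : List (ℕ × ℕ) := [(257, 2)]
noncomputable def zs : List (ℕ × List ℤ) := [(84, [.ofNat 3,.ofNat 0,.ofNat 0,.negSucc 1]),
  (85, [.ofNat 0,.ofNat 1]),
  (86, [.ofNat 0,.ofNat 0,.ofNat 1]),
  (87, [.ofNat 3,.ofNat 0,.ofNat 0,.negSucc 1]),
  (88, [.ofNat 4,.ofNat 0,.ofNat 0,.negSucc 3,.ofNat 1])]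

end Cfsg.Agent.DC.J4T
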